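import Groth.Agent.DCohLib.MVOpen
import Groth.Agent.DCohLib.ProjFlf

/-!
# Locally injective modules are injective
-/

set_option autoImplicit false
set_option backward.isDefEq.respectTransparency false
set_option linter.style.haveILetI false

universe u

open CategoryTheory CategoryTheory.Limits AlgebraicGeometry TopologicalSpace Opposite

noncomputable section

namespace Groth.Agent.LocInjLib

variable {X : Scheme.{u}}

/-- A morphism of modules over the opens contained in `W`. -/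
structure LocHom (A F : X.Modules) (W : X.Opens) where
  /-- the components -/
  app : ∀ V : X.Opens, V ≤ W → (Γ(A, V) →+ Γ(F, V))
  smul : ∀ (V : X.Opens) (h : V ≤ W) (r : Γ(X, V)) (m : Γ(A, V)), app V h (r • m) = r • app V h m
  natural : ∀ (V V' : X.Opens) (h : V ≤ W) (h' : V' ≤ V) (m : Γ(A, V)),
    app V' (h'.trans h) (A.presheaf.map (homOfLE h').op m) = F.presheaf.map (homOfLE h').op (app V h m)

variable {A F : X.Modules}

theorem map_map (M : X.Modules) {U V W : X.Opens} (i : V ⟶ U) (j : W ⟶ V) (k : W ⟶ U) (m : Γ(M, U)) :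
    M.presheaf.map j.op (M.presheaf.map i.op m) = M.presheaf.map k.op m := by
  rw [show k = j ≫ i from Subsingleton.elim _ _, op_comp, Functor.map_comp, ConcreteCategory.comp_apply]

theorem LocHom.natural' {W : X.Opens} (l : LocHom A F W) {V V' : X.Opens} (h : V ≤ W) (h₁ : V' ≤ W) (i : V' ⟶ V)
    (m : Γ(A, V)) : l.app V' h₁ (A.presheaf.map i.op m) = F.presheaf.map i.op (l.app V h m) := by
  rw [show i = homOfLE i.le from Subsingleton.elim _ _]
  exact l.natural V V' h i.le m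

/-- Scalars on sections of a restricted module. -/
theorem smul_restrict {U : X.Opens} (V : (U : Scheme.{u}).Opens) (a : Γ((U : Scheme.{u}), V))
    (m : Γ((Scheme.Modules.restrictFunctor U.ι).obj A, V)) :
    a • m = ((show Γ(X, U.ι ''ᵁ V) from a) • (show Γ(A, U.ι ''ᵁ V) from m) : Γ(A, U.ι ''ᵁ V)) := by
  have h : (U.ι.appIso V).inv a = (show Γ(X, U.ι ''ᵁ V) from a) := by
    rw [Scheme.Opens.ι_appIso]; rfl
  exact congrArg (fun (c : Γ(X, U.ι ''ᵁ V)) => c • (show Γ(A, U.ι ''ᵁ V) from m)) h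

/-- Restriction to a smaller open. -/
def LocHom.res {W W' : X.Opens} (l : LocHom A F W) (h : W' ≤ W) : LocHom A F W' where
  app V hV := l.app V (hV.trans h)
  smul V hV := l.smul V _
  natural V V' hV h' := l.natural V V' _ h'

/-- The family on `W` of a morphism on the open subscheme `U ≥ W`. -/
def ofRestrict {U : X.Opens}
    (φ : (Scheme.Modules.restrictFunctor U.ι).obj A ⟶ (Scheme.Modules.restrictFunctor U.ι).obj F) :
    LocHom A F U where
  app V hV :=
    (F.presheaf.map (eqToHom (show V = U.ι ''ᵁ (U.ι ⁻¹ᵁ V) from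
        ((U.ι.image_preimage_eq_opensRange_inf V).trans (by rw [Scheme.Opens.opensRange_ι]; exact inf_eq_right.2 hV)).symm)).op).hom.comp
      ((φ.app (U.ι ⁻¹ᵁ V)).hom.comp
        (A.presheaf.map (eqToHom (show U.ι ''ᵁ (U.ι ⁻¹ᵁ V) = V from
          (U.ι.image_preimage_eq_opensRange_inf V).trans (by rw [Scheme.Opens.opensRange_ι]; exact inf_eq_right.2 hV))).op).hom)
  smul V hV r m := by
    have e : U.ι ''ᵁ (U.ι ⁻¹ᵁ V) = V :=
      (U.ι.image_preimage_eq_opensRange_inf V).trans (by rw [Scheme.Opens.opensRange_ι]; exact inf_eq_right.2 hV)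
    show F.presheaf.map (eqToHom e.symm).op (φ.app (U.ι ⁻¹ᵁ V) (A.presheaf.map (eqToHom e).op (r • m))) =
      r • F.presheaf.map (eqToHom e.symm).op (φ.app (U.ι ⁻¹ᵁ V) (A.presheaf.map (eqToHom e).op m))
    rw [A.map_smul]
    refine (congrArg (F.presheaf.map (eqToHom e.symm).op)
      (((congrArg (φ.app (U.ι ⁻¹ᵁ V)) (smul_restrict (A := A) (U.ι ⁻¹ᵁ V) (X.presheaf.map (eqToHom e).op r)
          (A.presheaf.map (eqToHom e).op m)).symm).trans
        (Scheme.Modules.Hom.app_smul φ (U := U.ι ⁻¹ᵁ V) _ _)).trans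
          (smul_restrict (A := F) (U.ι ⁻¹ᵁ V) _ _))).trans ?_
    refine (F.map_smul (eqToHom e.symm) (X.presheaf.map (eqToHom e).op r) _).trans ?_
    rw [← CommRingCat.comp_apply, ← Functor.map_comp, ← op_comp,
      show eqToHom e.symm ≫ eqToHom e = 𝟙 V from Subsingleton.elim _ _, op_id, CategoryTheory.Functor.map_id]
    rfl
  natural V V' hV h' m := by
    have e : U.ι ''ᵁ (U.ι ⁻¹ᵁ V) = V :=
      (U.ι.image_preimage_eq_opensRange_inf V).trans (by rw [Scheme.Opens.opensRange_ι]; exact inf_eq_right.2 hV)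
    have e' : U.ι ''ᵁ (U.ι ⁻¹ᵁ V') = V' :=
      (U.ι.image_preimage_eq_opensRange_inf V').trans (by rw [Scheme.Opens.opensRange_ι]; exact inf_eq_right.2 (h'.trans hV))
    show F.presheaf.map (eqToHom e'.symm).op (φ.app (U.ι ⁻¹ᵁ V') (A.presheaf.map (eqToHom e').op
        (A.presheaf.map (homOfLE h').op m))) =
      F.presheaf.map (homOfLE h').op (F.presheaf.map (eqToHom e.symm).op (φ.app (U.ι ⁻¹ᵁ V) (A.presheaf.map (eqToHom e).op m)))
    have i : U.ι ⁻¹ᵁ V' ⟶ U.ι ⁻¹ᵁ V := homOfLE (U.ι.preimage_mono h')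
    rw [map_map A (homOfLE h') (eqToHom e') (eqToHom e' ≫ homOfLE h'),
      ← map_map A (eqToHom e) (U.ι.opensFunctor.map i) (eqToHom e' ≫ homOfLE h'),
      map_map F (eqToHom e.symm) (homOfLE h') (homOfLE h' ≫ eqToHom e.symm),
      ← map_map F (U.ι.opensFunctor.map i) (eqToHom e'.symm) (homOfLE h' ≫ eqToHom e.symm)]
    exact congrArg (F.presheaf.map (eqToHom e'.symm).op)
      (NatTrans.naturality_apply φ.mapPresheaf i.op (A.presheaf.map (eqToHom e).op m))

/-- The morphism on the open subscheme of a family. -/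
def toRestrict {W : X.Opens} (l : LocHom A F W) :
    (Scheme.Modules.restrictFunctor W.ι).obj A ⟶ (Scheme.Modules.restrictFunctor W.ι).obj F :=
  ⟨PresheafOfModules.homMk
    { app := fun V => AddCommGrpCat.ofHom (l.app (W.ι ''ᵁ V.unop) (W.ι_image_le _))
      naturality := fun {V V'} i => by
        ext m
        exact l.natural' (W.ι_image_le _) (W.ι_image_le _) (W.ι.opensFunctor.map i.unop) m }
    fun V r m => l.smul (W.ι ''ᵁ V.unop) (W.ι_image_le _) _ m⟩

/-- A family extends to a global morphism into an injective module. -/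
theorem exists_extend [Injective F] {W : X.Opens} (l : LocHom A F W) :
    ∃ χ : A ⟶ F, ∀ (V : X.Opens) (h : V ≤ W) (m : Γ(A, V)), χ.app V m = l.app V h m := by
  let adj := CxOX.extZeroAdj W.ι
  haveI : Mono (adj.counit.app ((𝟭 X.Modules).obj A)) := DCohLib.mono_extZero_counit W A
  let χ := @Injective.factorThru _ _ F _ _ inferInstance ((adj.homEquiv _ F).symm (toRestrict l)) (adj.counit.app A)
    (DCohLib.mono_extZero_counit W A)
  have hχ : (Scheme.Modules.restrictFunctor W.ι).map χ = toRestrict l := by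
    apply (adj.homEquiv _ F).symm.injective
    rw [adj.homEquiv_counit]
    exact (adj.counit.naturality χ).trans (Injective.comp_factorThru _ _)
  refine ⟨χ, fun V h m => ?_⟩
  have e : W.ι ''ᵁ (W.ι ⁻¹ᵁ V) = V :=
    (W.ι.image_preimage_eq_opensRange_inf V).trans (by rw [Scheme.Opens.opensRange_ι]; exact inf_eq_right.2 h)
  have h1 : χ.app (W.ι ''ᵁ (W.ι ⁻¹ᵁ V)) (A.presheaf.map (eqToHom e).op m) =
      l.app (W.ι ''ᵁ (W.ι ⁻¹ᵁ V)) (W.ι_image_le _) (A.presheaf.map (eqToHom e).op m) :=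
    congr(($hχ).app (W.ι ⁻¹ᵁ V) (A.presheaf.map (eqToHom e).op m))
  rw [show χ.app (W.ι ''ᵁ (W.ι ⁻¹ᵁ V)) (A.presheaf.map (eqToHom e).op m) =
    F.presheaf.map (eqToHom e).op (χ.app V m) from NatTrans.naturality_apply χ.mapPresheaf (eqToHom e).op m,
    l.natural' h (W.ι_image_le _) (eqToHom e) m] at h1
  have h2 := congrArg (F.presheaf.map (eqToHom e.symm).op) h1
  rw [map_map F (eqToHom e) (eqToHom e.symm) (𝟙 V), map_map F (eqToHom e) (eqToHom e.symm) (𝟙 V), op_id,
    CategoryTheory.Functor.map_id] at h2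
  exact h2

/-- Families agreeing on overlaps glue. -/
theorem exists_glue {ι : Type u} (W : ι → X.Opens) (l : ∀ i, LocHom A F (W i))
    (hl : ∀ (i j : ι) (V : X.Opens) (hi : V ≤ W i) (hj : V ≤ W j) (m : Γ(A, V)), (l i).app V hi m = (l j).app V hj m) :
    ∃ L : LocHom A F (⨆ i, W i), ∀ (i : ι) (V : X.Opens) (h : V ≤ W i) (m : Γ(A, V)),
      L.app V (h.trans (le_iSup W i)) m = (l i).app V h m := by
  let G : TopCat.Sheaf Ab.{u} X.carrier := ⟨F.presheaf, F.isSheaf⟩
  have hc : ∀ (V : X.Opens), V ≤ ⨆ i, W i → V ≤ ⨆ i, V ⊓ W i := fun V hV x hx => by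
    obtain ⟨i, hi⟩ := Opens.mem_iSup.1 (hV hx)
    exact Opens.mem_iSup.2 ⟨i, hx, hi⟩
  have key : ∀ (V : X.Opens), V ≤ ⨆ i, W i → ∀ m : Γ(A, V), ∃! t : Γ(F, V), ∀ i,
      F.presheaf.map (homOfLE (inf_le_left : V ⊓ W i ≤ V)).op t =
        (l i).app (V ⊓ W i) inf_le_right (A.presheaf.map (homOfLE (inf_le_left : V ⊓ W i ≤ V)).op m) := by
    intro V hV m
    refine G.existsUnique_gluing' (fun i => V ⊓ W i) V (fun i => homOfLE inf_le_left) (hc V hV) _ fun i j => ?_
    show F.presheaf.map (homOfLE inf_le_left).op ((l i).app _ _ _) = F.presheaf.map (homOfLE inf_le_right).op ((l j).app _ _ _)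
    rw [← (l i).natural' inf_le_right (inf_le_left.trans inf_le_right) (homOfLE inf_le_left),
      ← (l j).natural' inf_le_right (inf_le_right.trans inf_le_right) (homOfLE inf_le_right),
      map_map A (homOfLE inf_le_left) (homOfLE inf_le_left) (homOfLE (inf_le_left.trans inf_le_left)),
      map_map A (homOfLE inf_le_left) (homOfLE inf_le_right) (homOfLE (inf_le_left.trans inf_le_left))]
    exact hl i j _ _ _ _
  choose t ht htu using key
  refine ⟨{ app := fun V hV => AddMonoidHom.mk' (t V hV) fun a b => ?_, smul := ?_, natural := ?_ }, ?_⟩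
  · refine (htu V hV (a + b) _ fun i => ?_).symm
    dsimp only
    rw [map_add, map_add, map_add, ht V hV a i, ht V hV b i]
  · intro V hV r m
    refine (htu V hV (r • m) _ fun i => ?_).symm
    simp only [AddMonoidHom.mk'_apply]
    rw [F.map_smul, A.map_smul, (l i).smul, ht V hV m i]
  · intro V V' hV h' m
    refine (htu V' (h'.trans hV) _ _ fun i => ?_).symm
    simp only [AddMonoidHom.mk'_apply]
    have hle : V' ⊓ W i ≤ V ⊓ W i := inf_le_inf_right _ h'
    rw [map_map F (homOfLE h') (homOfLE inf_le_left) (homOfLE (inf_le_left.trans h')),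
      ← map_map F (homOfLE (inf_le_left : V ⊓ W i ≤ V)) (homOfLE hle) (homOfLE (inf_le_left.trans h')),
      ht V hV m i, map_map A (homOfLE h') (homOfLE inf_le_left) (homOfLE (inf_le_left.trans h')),
      ← (l i).natural' inf_le_right inf_le_right (homOfLE hle),
      map_map A (homOfLE inf_le_left) (homOfLE hle) (homOfLE (inf_le_left.trans h'))]
  · intro i V h m
    refine (htu V (h.trans (le_iSup W i)) m _ fun j => ?_).symm
    rw [← (l i).natural' h (inf_le_left.trans h) (homOfLE inf_le_left)]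
    exact hl i j _ _ _ _

/-- An extension of a retraction by one chart of injectivity. -/
theorem exists_retraction_extend {I : X.Modules} (ι₀ : F ⟶ I) [Mono ι₀] (U : X.Opens)
    [Injective ((Scheme.Modules.restrictFunctor U.ι).obj F)] {W : X.Opens} (r : LocHom I F W)
    (hr : ∀ (V : X.Opens) (h : V ≤ W) (m : Γ(F, V)), r.app V h (ι₀.app V m) = m) :
    ∃ r' : LocHom I F U, (∀ (V : X.Opens) (h : V ≤ U) (m : Γ(F, V)), r'.app V h (ι₀.app V m) = m) ∧
      ∀ (V : X.Opens) (hU : V ≤ U) (hW : V ≤ W) (m : Γ(I, V)), r'.app V hU m = r.app V hW m := by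
  let R := Scheme.Modules.restrictFunctor U.ι
  let Q := U.ι ⁻¹ᵁ W
  haveI : Mono (R.map ι₀) := inferInstance
  let lQ : LocHom (R.obj I) (R.obj F) Q :=
    { app := fun V hV => r.app (U.ι ''ᵁ V) ((U.ι.image_mono hV).trans (U.ι.image_preimage_le W))
      smul := fun V hV a m => r.smul (U.ι ''ᵁ V) _ _ m
      natural := fun V V' hV h' m => r.natural' _ _ (U.ι.opensFunctor.map (homOfLE h')) m }
  obtain ⟨χ, hχ⟩ := exists_extend lQ
  let ρ : R.obj I ⟶ R.obj F := Injective.factorThru (𝟙 (R.obj F)) (R.map ι₀)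
  have hρ : R.map ι₀ ≫ ρ = 𝟙 _ := Injective.comp_factorThru _ _
  let δ : R.obj F ⟶ R.obj F := R.map ι₀ ≫ χ - 𝟙 _
  let φ : R.obj I ⟶ R.obj F := χ - ρ ≫ δ
  have hφ : R.map ι₀ ≫ φ = 𝟙 _ := by
    simp only [φ, Preadditive.comp_sub, ← Category.assoc, hρ, Category.id_comp, δ, sub_sub_cancel]
  have hδ : ∀ (V : (U : Scheme.{u}).Opens) (hV : V ≤ Q) (m : Γ(R.obj F, V)), δ.app V m = 0 := by
    intro V hV m
    show χ.app V ((R.map ι₀).app V m) - m = 0
    rw [hχ V hV, sub_eq_zero]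
    exact hr _ _ m
  refine ⟨ofRestrict φ, fun V h m => ?_, fun V hU hW m => ?_⟩
  · have e : U.ι ''ᵁ (U.ι ⁻¹ᵁ V) = V :=
      (U.ι.image_preimage_eq_opensRange_inf V).trans (by rw [Scheme.Opens.opensRange_ι]; exact inf_eq_right.2 h)
    show F.presheaf.map (eqToHom e.symm).op (φ.app (U.ι ⁻¹ᵁ V) (I.presheaf.map (eqToHom e).op (ι₀.app V m))) = m
    rw [show I.presheaf.map (eqToHom e).op (ι₀.app V m) = ι₀.app _ (F.presheaf.map (eqToHom e).op m) from
      (NatTrans.naturality_apply ι₀.mapPresheaf (eqToHom e).op m).symm]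
    have h1 : φ.app (U.ι ⁻¹ᵁ V) (ι₀.app (U.ι ''ᵁ (U.ι ⁻¹ᵁ V)) (F.presheaf.map (eqToHom e).op m)) =
        F.presheaf.map (eqToHom e).op m := congr(($hφ).app (U.ι ⁻¹ᵁ V) (F.presheaf.map (eqToHom e).op m))
    rw [h1, map_map F (eqToHom e) (eqToHom e.symm) (𝟙 V), op_id, CategoryTheory.Functor.map_id]
    rfl
  · have e : U.ι ''ᵁ (U.ι ⁻¹ᵁ V) = V :=
      (U.ι.image_preimage_eq_opensRange_inf V).trans (by rw [Scheme.Opens.opensRange_ι]; exact inf_eq_right.2 hU)
    show F.presheaf.map (eqToHom e.symm).op (φ.app (U.ι ⁻¹ᵁ V) (I.presheaf.map (eqToHom e).op m)) = r.app V hW m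
    have hQ : U.ι ⁻¹ᵁ V ≤ Q := U.ι.preimage_mono hW
    have h1 : φ.app (U.ι ⁻¹ᵁ V) (I.presheaf.map (eqToHom e).op m) =
        lQ.app (U.ι ⁻¹ᵁ V) hQ (I.presheaf.map (eqToHom e).op m) := by
      show χ.app (U.ι ⁻¹ᵁ V) _ - δ.app (U.ι ⁻¹ᵁ V) (ρ.app (U.ι ⁻¹ᵁ V) _) = _
      rw [hδ _ hQ, sub_zero, hχ _ hQ]
    rw [h1, show lQ.app (U.ι ⁻¹ᵁ V) hQ (I.presheaf.map (eqToHom e).op m) = F.presheaf.map (eqToHom e).op (r.app V hW m)
      from r.natural' hW _ (eqToHom e) m, map_map F (eqToHom e) (eqToHom e.symm) (𝟙 V), op_id,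
      CategoryTheory.Functor.map_id]
    rfl

/-- A retraction over an open. -/
structure PartRetr {I : X.Modules} (ι₀ : F ⟶ I) where
  /-- the open -/
  W : X.Opens
  /-- the retraction -/
  l : LocHom I F W
  retr : ∀ (V : X.Opens) (h : V ≤ W) (m : Γ(F, V)), l.app V h (ι₀.app V m) = m

/-- A locally injective module is injective. -/
theorem injective_of_local (F : X.Modules)
    (hF : ∀ x : X, ∃ U : X.Opens, x ∈ U ∧ Injective ((Scheme.Modules.restrictFunctor U.ι).obj F))
    (I : X.Modules) [Injective I] (ι₀ : F ⟶ I) [Mono ι₀] : Injective F := by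
  let rel : PartRetr ι₀ → PartRetr ι₀ → Prop := fun a b => ∃ h : a.W ≤ b.W,
    ∀ (V : X.Opens) (hV : V ≤ a.W) (m : Γ(I, V)), b.l.app V (hV.trans h) m = a.l.app V hV m
  have hbot : ∀ V : X.Opens, V ≤ ⊥ → Subsingleton Γ(F, V) := fun V hV => ⟨fun a b =>
    TopCat.Sheaf.eq_of_locally_eq' (⟨F.presheaf, F.isSheaf⟩ : TopCat.Sheaf Ab.{u} X.carrier)
      (fun i : PEmpty.{u + 1} => i.elim) V (fun i => i.elim)
      (fun x hx => ((Set.mem_empty_iff_false x).1 (hV hx)).elim) a b fun i => i.elim⟩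
  haveI : Nonempty (PartRetr ι₀) := ⟨⟨⊥,
    { app := fun V h => 0
      smul := fun V h r m => by simp
      natural := fun V V' h h' m => by simp }, fun V h m => (hbot V h).elim _ _⟩⟩
  obtain ⟨M, hM⟩ := exists_maximal_of_nonempty_chains_bounded (r := rel) (fun c hc hne => by
    have hcomp : ∀ (i j : c) (V : X.Opens) (hi : V ≤ i.1.W) (hj : V ≤ j.1.W) (m : Γ(I, V)),
        i.1.l.app V hi m = j.1.l.app V hj m := by
      intro i j V hi hj m
      by_cases hij : i.1 = j.1
      · obtain ⟨i, hic⟩ := i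
        obtain ⟨j, hjc⟩ := j
        subst hij
        rfl
      rcases hc i.2 j.2 hij with ⟨h, hh⟩ | ⟨h, hh⟩
      · exact (hh V hi m).symm
      · exact hh V hj m
    obtain ⟨L, hL⟩ := exists_glue (fun i : c => i.1.W) (fun i => i.1.l) hcomp
    refine ⟨⟨_, L, fun V h m => ?_⟩, fun a ha => ⟨le_iSup (fun i : c => i.1.W) ⟨a, ha⟩, fun V hV m => hL ⟨a, ha⟩ V hV m⟩⟩
    refine TopCat.Sheaf.eq_of_locally_eq' (⟨F.presheaf, F.isSheaf⟩ : TopCat.Sheaf Ab.{u} X.carrier)
      (fun i : c => V ⊓ i.1.W) V (fun i => homOfLE inf_le_left) (fun x hx => by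
        obtain ⟨i, hi⟩ := Opens.mem_iSup.1 (h hx)
        exact Opens.mem_iSup.2 ⟨i, hx, hi⟩) _ _ fun i => ?_
    show F.presheaf.map (homOfLE inf_le_left).op _ = F.presheaf.map (homOfLE inf_le_left).op m
    rw [← L.natural' h (inf_le_left.trans h) (homOfLE inf_le_left), hL i _ inf_le_right,
      show I.presheaf.map (homOfLE (inf_le_left : V ⊓ i.1.W ≤ V)).op (ι₀.app V m) = ι₀.app _ (F.presheaf.map (homOfLE inf_le_left).op m)
        from (NatTrans.naturality_apply ι₀.mapPresheaf (homOfLE inf_le_left).op m).symm]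
    exact i.1.retr _ _ _)
    (fun {a b c} ⟨h, hh⟩ ⟨h', hh'⟩ => ⟨h.trans h', fun V hV m => (hh' V _ m).trans (hh V hV m)⟩)
  have htop : (⊤ : X.Opens) ≤ M.W := by
    intro x _
    obtain ⟨U, hxU, hU⟩ := hF x
    obtain ⟨r', hr', hag⟩ := exists_retraction_extend ι₀ U M.l M.retr
    let Wf : ULift.{u} Bool → X.Opens := fun b => bif b.down then M.W else U
    let lf : ∀ b, LocHom I F (Wf b) := fun b => match b with
      | ⟨true⟩ => M.l
      | ⟨false⟩ => r'
    obtain ⟨L, hL⟩ := exists_glue Wf lf (by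
      rintro ⟨_ | _⟩ ⟨_ | _⟩ V hi hj m
      · rfl
      · exact hag V hi hj m
      · exact (hag V hj hi m).symm
      · rfl)
    have hW : M.W ≤ ⨆ b, Wf b := le_iSup Wf ⟨true⟩
    obtain ⟨h', -⟩ := hM ⟨_, L, fun V h m => by
      refine TopCat.Sheaf.eq_of_locally_eq' (⟨F.presheaf, F.isSheaf⟩ : TopCat.Sheaf Ab.{u} X.carrier)
        (fun b => V ⊓ Wf b) V (fun i => homOfLE inf_le_left) (fun x hx => by
          obtain ⟨i, hi⟩ := Opens.mem_iSup.1 (h hx)
          exact Opens.mem_iSup.2 ⟨i, hx, hi⟩) _ _ fun i => ?_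
      show F.presheaf.map (homOfLE inf_le_left).op _ = F.presheaf.map (homOfLE inf_le_left).op m
      rw [← L.natural' h (inf_le_left.trans h) (homOfLE inf_le_left), hL i _ inf_le_right,
        show I.presheaf.map (homOfLE (inf_le_left : V ⊓ Wf i ≤ V)).op (ι₀.app V m) = ι₀.app _ (F.presheaf.map (homOfLE inf_le_left).op m)
          from (NatTrans.naturality_apply ι₀.mapPresheaf (homOfLE inf_le_left).op m).symm]
      rcases i with ⟨_ | _⟩
      · exact hr' _ _ _
      · exact M.retr _ _ _⟩ ⟨hW, fun V hV m => hL ⟨true⟩ V hV m⟩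
    exact h' (Opens.mem_iSup.2 ⟨⟨false⟩, hxU⟩)
  let r : I ⟶ F := ⟨PresheafOfModules.homMk
    { app := fun V => AddCommGrpCat.ofHom (M.l.app V.unop (le_top.trans htop))
      naturality := fun {V V'} i => by
        ext m
        exact M.l.natural' _ _ i.unop m }
    fun V a m => M.l.smul V.unop _ a m⟩
  have hr : ι₀ ≫ r = 𝟙 F := by
    ext V m
    exact M.retr V (le_top.trans htop) m
  exact ⟨fun {A B} g f _ => ⟨Injective.factorThru (g ≫ ι₀) f ≫ r, by
    rw [← Category.assoc, Injective.comp_factorThru, Category.assoc, hr, Category.comp_id]⟩⟩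

end Groth.Agent.LocInjLib
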